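import Mathlib.RingTheory.Smooth.Basic
import Mathlib.RingTheory.Smooth.StandardSmoothCotangent
import Mathlib.RingTheory.Smooth.Local
import Mathlib.RingTheory.Etale.Field
import Mathlib.RingTheory.Nakayama
import Mathlib.RingTheory.RingHom.StandardSmooth
import Mathlib.RingTheory.Localization.Module
import Mathlib.AlgebraicGeometry.Morphisms.Smooth
import Groth.Prelude.Def_CurvBase

/-!
At a smooth point with separable residue field of a curve over a field, the differential of a uniformizer is a
basis of the Kähler differentials of the local ring.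
-/

set_option autoImplicit false
set_option linter.style.haveILetI false
set_option backward.isDefEq.respectTransparency false
set_option backward.isDefEq.respectTransparency.types false

universe u

open CategoryTheory CategoryTheory.Limits AlgebraicGeometry TopologicalSpace Opposite IsLocalRing
open scoped TensorProduct

noncomputable section

namespace Groth.Agent.DUnif

theorem bijective_smul_D {k R κ : Type u} [Field k] [CommRing R] [IsLocalRing R] [IsNoetherianRing R] [Field κ]
    [Algebra k R] [Algebra k κ] [Algebra R κ] [IsScalarTower k R κ] (hsurj : Function.Surjective (algebraMap R κ))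
    (hker : RingHom.ker (algebraMap R κ) = maximalIdeal R) [Algebra.FormallySmooth k R] [Algebra.IsSeparable k κ]
    (B0 : Module.Basis (Fin 1) R Ω[R⁄k]) (s : R) (hs : Irreducible s) :
    Function.Bijective (fun a : R => a • KaehlerDifferential.D k R s) := by
  haveI : Module.Finite R Ω[R⁄k] := Module.Finite.of_basis B0
  haveI : Algebra.FormallyEtale k κ := Algebra.FormallyEtale.of_isSeparable k κ
  obtain ⟨l, hl⟩ := (Algebra.FormallySmooth.iff_split_injection (R := k) (P := R) (A := κ) hsurj).mp inferInstance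
  have hj : Function.Injective (KaehlerDifferential.kerCotangentToTensor k R κ) := fun a b h => by
    have ha := LinearMap.congr_fun hl a
    have hb := LinearMap.congr_fun hl b
    rw [LinearMap.comp_apply, h] at ha
    rw [LinearMap.comp_apply] at hb
    exact ha.symm.trans hb
  let φ := (B0.baseChange κ).coord 0
  have hφ : Function.Injective φ := fun a b h => (B0.baseChange κ).repr.injective (Finsupp.ext fun i => by
    fin_cases i; exact h)
  -- the maximal ideal is principal
  have hprinc : ∃ t : R, maximalIdeal R = Ideal.span {t} := by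
    rw [← hker]
    let I := RingHom.ker (algebraMap R κ)
    have hIj : I ≤ Ideal.jacobson ⊥ := hker.le.trans (maximalIdeal_le_jacobson _)
    have hfg : I.FG := IsNoetherian.noetherian _
    by_cases h : ∀ z : I, φ (KaehlerDifferential.kerCotangentToTensor k R κ (I.toCotangent z)) = 0
    · refine ⟨0, ?_⟩
      rw [Ideal.span_singleton_zero]
      refine Submodule.eq_bot_of_le_smul_of_le_jacobson_bot I I hfg (fun z hz => ?_) hIj
      have h1 : I.toCotangent ⟨z, hz⟩ = 0 :=
        hj (hφ ((h ⟨z, hz⟩).trans (by rw [map_zero, map_zero])))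
      rw [Ideal.toCotangent_eq_zero, pow_two] at h1
      exact h1
    · push Not at h
      obtain ⟨t, ht⟩ := h
      refine ⟨t, le_antisymm ?_ ((Ideal.span_singleton_le_iff_mem _).mpr t.2)⟩
      refine Submodule.le_of_le_smul_of_le_jacobson_bot hfg hIj fun z hz => ?_
      set u := φ (KaehlerDifferential.kerCotangentToTensor k R κ (I.toCotangent t)) with hu
      obtain ⟨r, hr⟩ := hsurj (φ (KaehlerDifferential.kerCotangentToTensor k R κ (I.toCotangent ⟨z, hz⟩)) / u)
      have h1 : I.toCotangent ⟨z, hz⟩ = r • I.toCotangent t := hj (hφ (by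
        rw [map_smul, ← algebraMap_smul κ r (KaehlerDifferential.kerCotangentToTensor k R κ _), map_smul, hr,
          smul_eq_mul, ← hu, div_mul_cancel₀ _ ht]))
      rw [← map_smul, Ideal.toCotangent_eq, pow_two] at h1
      refine Submodule.mem_sup.mpr ⟨r * t.1, Ideal.mul_mem_left _ _ (Ideal.mem_span_singleton_self _), _, h1, ?_⟩
      show r * t.1 + (z - r * t.1) = z
      ring
  obtain ⟨t, ht⟩ := hprinc
  have hsm : s ∈ maximalIdeal R := hs.not_isUnit
  have hm : maximalIdeal R = Ideal.span {s} := by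
    rw [ht] at hsm ⊢
    obtain ⟨c, hc⟩ := Ideal.mem_span_singleton'.mp hsm
    have htu : ¬ IsUnit t := fun h => (maximalIdeal.isMaximal R).ne_top (ht.trans (Ideal.span_singleton_eq_top.mpr h))
    have hcu : IsUnit c := (hs.isUnit_or_isUnit hc.symm).resolve_right htu
    rw [← hc, Ideal.span_singleton_mul_left_unit hcu]
  -- `d s` generates
  let N : Submodule R Ω[R⁄k] := Submodule.span R {KaehlerDifferential.D k R s} ⊔ maximalIdeal R • ⊤
  have hDm : ∀ z ∈ maximalIdeal R, KaehlerDifferential.D k R z ∈ N := fun z hz => by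
    rw [hm] at hz
    obtain ⟨c, rfl⟩ := Ideal.mem_span_singleton'.mp hz
    rw [Derivation.leibniz]
    exact add_mem (Submodule.mem_sup_left (Submodule.smul_mem _ _ (Submodule.mem_span_singleton_self _)))
      (Submodule.mem_sup_right (Submodule.smul_mem_smul hsm Submodule.mem_top))
  have hD : ∀ b : R, KaehlerDifferential.D k R b ∈ N := fun b => by
    let P := minpoly k (algebraMap R κ b)
    have hsep : IsSeparable k (algebraMap R κ b) := Algebra.IsSeparable.isSeparable k _
    have h1 : Polynomial.aeval b P ∈ maximalIdeal R := by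
      rw [← hker, RingHom.mem_ker, ← Polynomial.aeval_algebraMap_apply, minpoly.aeval]
    have h2 : IsUnit (Polynomial.aeval b (Polynomial.derivative P)) := by
      refine notMem_maximalIdeal.mp fun h => ?_
      rw [← hker, RingHom.mem_ker, ← Polynomial.aeval_algebraMap_apply] at h
      exact hsep.aeval_derivative_ne_zero (minpoly.aeval _ _) h
    have h3 := hDm _ h1
    rw [Derivation.map_aeval] at h3
    exact (Submodule.smul_mem_iff_of_isUnit N h2).mp h3
  have htop : (⊤ : Submodule R Ω[R⁄k]) ≤ Submodule.span R {KaehlerDifferential.D k R s} := by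
    refine Submodule.le_of_le_smul_of_le_jacobson_bot Module.Finite.fg_top (maximalIdeal_le_jacobson _) ?_
    have hN : (⊤ : Submodule R Ω[R⁄k]) ≤ N := by
      rw [← KaehlerDifferential.span_range_derivation k R, Submodule.span_le]
      rintro _ ⟨b, rfl⟩
      exact hD b
    exact hN
  have hsurj' : Function.Surjective (fun a : R => a • KaehlerDifferential.D k R s) := fun ω =>
    Submodule.mem_span_singleton.mp (htop (Submodule.mem_top : ω ∈ (⊤ : Submodule R Ω[R⁄k])))
  refine ⟨fun a b h => ?_, hsurj'⟩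
  obtain ⟨e, he⟩ := hsurj' (B0 0)
  set d := B0.repr (KaehlerDifferential.D k R s) 0
  have h4 : e * d = 1 := by
    have := congrArg (fun v => B0.repr v 0) he
    simpa [smul_eq_mul] using this
  have h5 := congrArg (fun v => B0.repr v 0) h
  simp only [map_smul, Finsupp.smul_apply, smul_eq_mul] at h5
  calc a = a * (e * d) := by rw [h4, mul_one]
    _ = e * (a * d) := by ring
    _ = e * (b * d) := by rw [h5]
    _ = b := by rw [mul_left_comm, h4, mul_one]

theorem exists_chart {k : Type u} [Field k] {X : Scheme.{u}} (f : X ⟶ Spec (CommRingCat.of k)) (x : X)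
    (hsm : ∃ U : X.Opens, x ∈ U ∧ SmoothOfRelativeDimension 1 (U.ι ≫ f)) :
    ∃ (V : X.Opens), IsAffineOpen V ∧ x ∈ V ∧
      RingHom.IsStandardSmoothOfRelativeDimension 1 ((X.presheaf.map (homOfLE (le_top : V ≤ ⊤)).op).hom.comp (Coh.toGlobal f)) := by
  obtain ⟨U, hxU, hU⟩ := hsm
  haveI := hU
  obtain ⟨U0, hU0, V, hV, hxV, e, hstd⟩ :=
    SmoothOfRelativeDimension.exists_isStandardSmoothOfRelativeDimension (n := 1) (f := U.ι ≫ f) ⟨x, hxU⟩
  have hU0top : U0 = ⊤ := by
    refine eq_top_iff.mpr fun z _ => ?_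
    have : z = (U.ι ≫ f) ⟨x, hxU⟩ := Subsingleton.elim (α := PrimeSpectrum k) _ _
    rw [this]
    exact e hxV
  subst hU0top
  refine ⟨U.ι ''ᵁ V, hV.image_of_isOpenImmersion U.ι, ⟨⟨x, hxU⟩, hxV, rfl⟩, ?_⟩
  have h1 : (U.ι ≫ f).appLE ⊤ V e = (f.appLE ⊤ (U.ι ''ᵁ V) le_top : _ ⟶ Γ(X, U.ι ''ᵁ V)) := by
    rw [← Scheme.Hom.appLE_comp_appLE U.ι f ⊤ (U.ι ''ᵁ V) V le_top (Scheme.Hom.preimage_image_eq _ V).ge,
      Scheme.Opens.ι_appLE]
    rw [show (homOfLE _ : U.ι ''ᵁ V ⟶ U.ι ''ᵁ V) = 𝟙 _ from Subsingleton.elim _ _, op_id, X.presheaf.map_id,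
      Category.comp_id]
  rw [h1] at hstd
  have h2 := (RingHom.isStandardSmoothOfRelativeDimension_respectsIso).right
    (f.appLE ⊤ (U.ι ''ᵁ V) le_top).hom (Scheme.ΓSpecIso (CommRingCat.of k)).commRingCatIsoToRingEquiv.symm hstd
  exact h2

theorem result' (k : Type u) [Field k] (X : Scheme.{u}) [X.Over (Spec (CommRingCat.of k))]
    (x : X) (hsm : ∃ U : X.Opens, x ∈ U ∧ SmoothOfRelativeDimension 1 (U.ι ≫ (X ↘ (Spec (CommRingCat.of k)))))
    (hsep : @Algebra.IsSeparable k (X.residueField x) _ _ (Curv2.resAlgebra k X x))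
    (s : X.presheaf.stalk x) (hs : Irreducible s) :
    letI := Curv2.stalkAlgebra k X x
    Function.Bijective (fun a : X.presheaf.stalk x => a • KaehlerDifferential.D k (X.presheaf.stalk x) s) := by
  letI := Curv2.stalkAlgebra k X x
  letI := Curv2.resAlgebra k X x
  obtain ⟨V, hV, hxV, hstd⟩ := exists_chart (X ↘ (Spec (CommRingCat.of k))) x hsm
  letI : Algebra k Γ(X, V) := ((X.presheaf.map (homOfLE (le_top : V ≤ ⊤)).op).hom.comp (Coh.toGlobal (X ↘ (Spec (CommRingCat.of k))))).toAlgebra
  haveI : Algebra.IsStandardSmoothOfRelativeDimension 1 k Γ(X, V) := hstd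
  haveI : Algebra.IsStandardSmooth k Γ(X, V) := Algebra.IsStandardSmoothOfRelativeDimension.isStandardSmooth 1
  letI := X.presheaf.algebra_section_stalk (⟨x, hxV⟩ : V)
  haveI := hV.isLocalization_stalk ⟨x, hxV⟩
  haveI : IsScalarTower k Γ(X, V) (X.presheaf.stalk x) := IsScalarTower.of_algebraMap_eq fun c => by
    exact ((X.presheaf.germ_res_apply (homOfLE (le_top : V ≤ ⊤)) x hxV
      (Coh.toGlobal (X ↘ (Spec (CommRingCat.of k))) c)).symm)
  haveI : Algebra.FormallySmooth Γ(X, V) (X.presheaf.stalk x) :=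
    Algebra.FormallySmooth.of_isLocalization (hV.primeIdealOf ⟨x, hxV⟩).asIdeal.primeCompl
  haveI : Algebra.FormallySmooth k (X.presheaf.stalk x) := Algebra.FormallySmooth.comp k Γ(X, V) _
  haveI : Algebra.FiniteType k Γ(X, V) := inferInstance
  haveI : IsNoetherianRing Γ(X, V) := Algebra.FiniteType.isNoetherianRing k _
  haveI : IsNoetherianRing (X.presheaf.stalk x) :=
    IsLocalization.isNoetherianRing (hV.primeIdealOf ⟨x, hxV⟩).asIdeal.primeCompl _ inferInstance
  haveI : Nonempty V := ⟨⟨x, hxV⟩⟩
  haveI : Nontrivial Γ(X, V) := (X.presheaf.germ V x hxV).hom.domain_nontrivial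
  have hr1 : Module.finrank Γ(X, V) Ω[Γ(X, V)⁄k] = 1 := Module.finrank_eq_of_rank_eq
    (by rw [Algebra.IsStandardSmoothOfRelativeDimension.rank_kaehlerDifferential 1])
  let bΩ := Module.finBasisOfFinrankEq Γ(X, V) Ω[Γ(X, V)⁄k] hr1
  let B0 := bΩ.ofIsLocalizedModule (X.presheaf.stalk x) (hV.primeIdealOf ⟨x, hxV⟩).asIdeal.primeCompl
    (KaehlerDifferential.map k k Γ(X, V) (X.presheaf.stalk x))
  letI : Algebra (X.presheaf.stalk x) (X.residueField x) := (X.residue x).hom.toAlgebra
  haveI : IsScalarTower k (X.presheaf.stalk x) (X.residueField x) := IsScalarTower.of_algebraMap_eq fun _ => rfl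
  haveI := hsep
  exact bijective_smul_D (κ := X.residueField x) (X.residue_surjective x) (IsLocalRing.ker_residue) B0 s hs

end Groth.Agent.DUnif
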